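import Cfsg.Agent.H613.KKL.Defs
import Cfsg.Agent.H645.Watanabe
import Cfsg.Agent.H624.MajTwoB
import Cfsg.Agent.H613.NilRank
import Cfsg.Agent.S4687

/-!
# S4546, task A4: 2-blocks with defect group `2^3` and inertial quotient of order prime to 7

`A4`: all heights are zero.  `D = 2^3`, `T` the inertial group, `C = C_G(D)`, `|T : C|` is odd and prime to 7.
* `exists_fixed` : some `u ≠ 1` in `D` is fixed by `T`;
* `mem_centralizer_of_fix` : an element of `T` fixing `u` and a second element is in `C`;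
* `rank_one_of_free` : `l(b_z) = 1` if `C_T(z) = C`;
* `even_card` : `k(B) |T : C| = n l(B) |T : C| + (8 - n)`, `n = |C_D(T)|` even, so `k(B)` is even;
* `ht_zero` : the diagonal contributions of `(z, b_z)` have sum 8, are positive, odd for height zero and
  divisible by 4 otherwise.
-/

set_option autoImplicit false
set_option linter.unusedSectionVars false

open Cfsg

namespace Cfsg.Agent.H990.KKL

open Cfsg.Agent.H613.KKL

universe u

/-! ### numerics -/

theorem ht_zero {M : Ideal AlgInt} (hM : IsPModular 2 M) {ζ : ℂ} {k : ℕ}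
    (hζ : IsPrimitiveRoot ζ (2 ^ (k + 1))) {ι : Type*} [Fintype ι] {ht : ι → ℕ}
    {P : ℕ → ι → ι → ℂ} {a : ι → ι → ℕ → ℤ}
    (h : Cfsg.Agent.H624.MajTwo.Proj M ζ k 3 ht P a 1) (h0 : ∃ ψ, ht ψ = 0)
    (hev : Even (Fintype.card ι)) (χ : ι) : ht χ = 0 := by
  classical
  by_contra hχ
  have hsum := h.sum_t hζ
  have hpos := h.pos hM hζ h0
  have hodd : ∀ ψ, ht ψ = 0 → ¬ (2 : ℤ) ∣ a ψ ψ 0 := fun ψ hψ => h.odd hM hζ hψ
  have h4 : ∀ ψ, ¬ ht ψ = 0 → (2 : ℤ) ^ 2 ∣ a ψ ψ 0 := by
    intro ψ hψ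
    exact dvd_trans (pow_dvd_pow 2 (by omega : 2 ≤ ht ψ + 1)) (h.dvd hM hζ hψ)
  obtain ⟨ψ₀, hψ₀⟩ := h0
  have hc : (Finset.univ.filter (fun ψ => ht ψ = 0)).card +
      (Finset.univ.filter (fun ψ => ¬ ht ψ = 0)).card = Fintype.card ι := by
    rw [Finset.card_filter_add_card_filter_not, Finset.card_univ]
  have hs := Finset.sum_filter_add_sum_filter_not Finset.univ (fun ψ => ht ψ = 0)
    (fun ψ => a ψ ψ 0)
  have hS1 : 0 < (Finset.univ.filter (fun ψ => ht ψ = 0)).card :=
    Finset.card_pos.2 ⟨ψ₀, by simp [hψ₀]⟩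
  have hS2 : 0 < (Finset.univ.filter (fun ψ => ¬ ht ψ = 0)).card :=
    Finset.card_pos.2 ⟨χ, by simp [hχ]⟩
  -- lower bounds
  have hb1 : ((Finset.univ.filter (fun ψ => ht ψ = 0)).card : ℤ) ≤
      ∑ ψ ∈ Finset.univ.filter (fun ψ => ht ψ = 0), a ψ ψ 0 := by
    have := Finset.card_nsmul_le_sum (Finset.univ.filter (fun ψ => ht ψ = 0))
      (fun ψ => a ψ ψ 0) 1 (fun ψ _ => hpos ψ)
    simpa using this
  have hb2 : 4 * ((Finset.univ.filter (fun ψ => ¬ ht ψ = 0)).card : ℤ) ≤
      ∑ ψ ∈ Finset.univ.filter (fun ψ => ¬ ht ψ = 0), a ψ ψ 0 := by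
    have := Finset.card_nsmul_le_sum (Finset.univ.filter (fun ψ => ¬ ht ψ = 0))
      (fun ψ => a ψ ψ 0) 4 (fun ψ hψ => by
        have h5 := Int.le_of_dvd (hpos ψ) (h4 ψ (Finset.mem_filter.1 hψ).2)
        norm_num at h5
        exact h5)
    rw [nsmul_eq_mul] at this
    linarith
  -- parity
  have hp1 : (2 : ℤ) ∣ ∑ ψ ∈ Finset.univ.filter (fun ψ => ht ψ = 0), a ψ ψ 0 -
      ((Finset.univ.filter (fun ψ => ht ψ = 0)).card : ℤ) := by
    have h5 : ∑ ψ ∈ Finset.univ.filter (fun ψ => ht ψ = 0), a ψ ψ 0 -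
      ((Finset.univ.filter (fun ψ => ht ψ = 0)).card : ℤ) =
        ∑ ψ ∈ Finset.univ.filter (fun ψ => ht ψ = 0), (a ψ ψ 0 - 1) := by
      rw [Finset.sum_sub_distrib]
      simp
    rw [h5]
    refine Finset.dvd_sum fun ψ hψ => ?_
    have := hodd ψ (Finset.mem_filter.1 hψ).2
    omega
  have hp2 : (2 : ℤ) ∣ ∑ ψ ∈ Finset.univ.filter (fun ψ => ¬ ht ψ = 0), a ψ ψ 0 := by
    refine Finset.dvd_sum fun ψ hψ => ?_
    have := h4 ψ (Finset.mem_filter.1 hψ).2
    norm_num at this
    omega
  rw [hsum] at hs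
  obtain ⟨m, hm⟩ := hev
  norm_num at hs
  omega

/-! ### an odd-order group acting on eight points -/

theorem exists_fixed {X : Type*} [Finite X] {T : Type*} [Group T] [MulAction T X] (o : X)
    (ho : ∀ t : T, t • o = o) (h8 : Nat.card X = 8)
    (hodd : ∀ x : X, Odd (MulAction.orbit T x).ncard) (h7 : ∀ x : X, (MulAction.orbit T x).ncard ≠ 7) :
    ∃ x : X, x ≠ o ∧ ∀ t : T, t • x = x := by
  classical
  by_contra hcon
  push Not at hcon
  have hfin : ∀ s : Set X, s.Finite := fun s => Set.toFinite s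
  -- the complement of `o`
  have hU : ({x : X | x ≠ o} : Set X).ncard = 7 := by
    have h1 := Set.ncard_add_ncard_compl ({o} : Set X)
    rw [Set.ncard_singleton, h8] at h1
    have h2 : ({o} : Set X)ᶜ = {x : X | x ≠ o} := by
      ext x
      simp
    rw [h2] at h1
    omega
  have hsub : ∀ x : X, x ≠ o → MulAction.orbit T x ⊆ {x : X | x ≠ o} := by
    rintro x hx _ ⟨t, rfl⟩ h
    apply hx
    have h' : t • x = o := h
    have : t⁻¹ • (t • x) = t⁻¹ • o := by rw [h']
    rwa [inv_smul_smul, ho] at this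
  have h3 : ∀ x : X, x ≠ o → 3 ≤ (MulAction.orbit T x).ncard := by
    intro x hx
    obtain ⟨t, ht⟩ := hcon x hx
    have h1 : 1 < (MulAction.orbit T x).ncard := by
      rw [Set.one_lt_ncard (hfin _)]
      exact ⟨x, MulAction.mem_orbit_self x, t • x, MulAction.mem_orbit x t, fun h => ht h.symm⟩
    obtain ⟨k, hk⟩ := hodd x
    omega
  have hdis : ∀ x y : X, y ∉ MulAction.orbit T x →
      Disjoint (MulAction.orbit T x) (MulAction.orbit T y) := by
    intro x y hy
    rw [Set.disjoint_left]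
    rintro z hz hz'
    apply hy
    rw [← MulAction.orbit_eq_iff.2 hz, MulAction.orbit_eq_iff.2 hz']
    exact MulAction.mem_orbit_self y
  -- first orbit
  obtain ⟨x, hx⟩ : ∃ x : X, x ≠ o := by
    have : ({x : X | x ≠ o} : Set X).Nonempty := by
      rw [← Set.ncard_pos (hfin _), hU]
      norm_num
    exact this
  have hx3 := h3 x hx
  have hx7 := h7 x
  have hxle : (MulAction.orbit T x).ncard ≤ 7 := by
    rw [← hU]
    exact Set.ncard_le_ncard (hsub x hx) (hfin _)
  -- second orbit
  obtain ⟨y, hy, hyx⟩ : ∃ y : X, y ≠ o ∧ y ∉ MulAction.orbit T x := by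
    by_contra h
    push Not at h
    have h1 : ({x : X | x ≠ o} : Set X).ncard ≤ (MulAction.orbit T x).ncard :=
      Set.ncard_le_ncard (fun y hy => h y hy) (hfin _)
    omega
  have hy3 := h3 y hy
  have hxy := hdis x y hyx
  have hun : (MulAction.orbit T x ∪ MulAction.orbit T y).ncard =
      (MulAction.orbit T x).ncard + (MulAction.orbit T y).ncard :=
    Set.ncard_union_eq hxy (hfin _) (hfin _)
  have hle : (MulAction.orbit T x ∪ MulAction.orbit T y).ncard ≤ 7 := by
    rw [← hU]
    exact Set.ncard_le_ncard (Set.union_subset (hsub x hx) (hsub y hy)) (hfin _)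
  obtain ⟨k, hk⟩ := hodd x
  obtain ⟨l, hl⟩ := hodd y
  -- third orbit
  obtain ⟨z, hz, hzx⟩ : ∃ z : X, z ≠ o ∧ z ∉ MulAction.orbit T x ∪ MulAction.orbit T y := by
    by_contra h
    push Not at h
    have h1 : ({x : X | x ≠ o} : Set X).ncard ≤
        (MulAction.orbit T x ∪ MulAction.orbit T y).ncard :=
      Set.ncard_le_ncard (fun y hy => h y hy) (hfin _)
    omega
  have hz3 := h3 z hz
  have hdz : Disjoint (MulAction.orbit T x ∪ MulAction.orbit T y) (MulAction.orbit T z) := by
    rw [Set.disjoint_union_left]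
    exact ⟨hdis x z fun h => hzx (Or.inl h), hdis y z fun h => hzx (Or.inr h)⟩
  have hun2 : (MulAction.orbit T x ∪ MulAction.orbit T y ∪ MulAction.orbit T z).ncard =
      (MulAction.orbit T x ∪ MulAction.orbit T y).ncard + (MulAction.orbit T z).ncard :=
    Set.ncard_union_eq hdz (hfin _) (hfin _)
  have hle2 : (MulAction.orbit T x ∪ MulAction.orbit T y ∪ MulAction.orbit T z).ncard ≤ 7 := by
    rw [← hU]
    exact Set.ncard_le_ncard (Set.union_subset (Set.union_subset (hsub x hx) (hsub y hy))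
      (hsub z hz)) (hfin _)
  omega

/-! ### the action on `D` -/

section act

variable {G : Type u} [Group G] {D : Subgroup G}

theorem E8.comm (h8 : E8 D) : ∀ x ∈ D, ∀ y ∈ D, x * y = y * x := by
  intro x hx y hy
  have h1 := h8.inv x hx
  have h2 := h8.inv y hy
  have h3 := h8.inv (x * y) (D.mul_mem hx hy)
  have hx' : x⁻¹ = x := inv_eq_of_mul_eq_one_left h1
  have hy' : y⁻¹ = y := inv_eq_of_mul_eq_one_left h2
  have h4 : (x * y)⁻¹ = x * y := inv_eq_of_mul_eq_one_left h3
  rw [mul_inv_rev, hx', hy'] at h4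
  exact h4.symm

/-- An element of odd order modulo `C(D)` which fixes three elements of `D` is in `C(D)`. -/
theorem mem_centralizer_of_fix [Finite G] (h8 : E8 D) {s : G}
    (hs : s ∈ Subgroup.normalizer (D : Set G)) {m : ℕ} (hm : Odd m)
    (hsm : s ^ m ∈ Subgroup.centralizer (D : Set G)) {u z : G} (hu : u ∈ D) (hz : z ∈ D)
    (hu1 : u ≠ 1) (hz1 : z ≠ 1) (huz : z ≠ u) (hsu : s * u * s⁻¹ = u) (hsz : s * z * s⁻¹ = z) :
    s ∈ Subgroup.centralizer (D : Set G) := by
  classical
  have hcomm := E8.comm h8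
  set K : Subgroup ↥D := (Subgroup.centralizer ({s} : Set G)).subgroupOf D with hK
  have hmemK : ∀ x : ↥D, x ∈ K ↔ s * (x : G) * s⁻¹ = x := by
    intro x
    rw [hK, Subgroup.mem_subgroupOf, Subgroup.mem_centralizer_singleton_iff]
    constructor
    · intro h
      rw [← h]
      group
    · intro h
      conv_lhs => rw [← h]
      group
  have hfinD : Finite ↥D := inferInstance
  have hcard : Nat.card K * K.index = 8 := by
    rw [Subgroup.card_mul_index, h8.card]
  have h3 : 3 ≤ Nat.card K := by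
    have hfK : Fintype K := Fintype.ofFinite K
    rw [Nat.card_eq_fintype_card]
    let a : K := ⟨⟨u, hu⟩, (hmemK _).2 hsu⟩
    let b : K := ⟨⟨z, hz⟩, (hmemK _).2 hsz⟩
    have h1 : ({1, a, b} : Finset K).card = 3 := by
      rw [Finset.card_eq_three]
      refine ⟨1, a, b, ?_, ?_, ?_, rfl⟩
      · exact fun h => hu1 (congrArg (fun x : K => ((x : ↥D) : G)) h).symm
      · exact fun h => hz1 (congrArg (fun x : K => ((x : ↥D) : G)) h).symm
      · exact fun h => huz (congrArg (fun x : K => ((x : ↥D) : G)) h).symm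
    rw [← h1]
    exact Finset.card_le_univ _
  have hidx : K.index = 1 ∨ K.index = 2 := by
    have h0 : 0 < K.index := Nat.pos_of_ne_zero Subgroup.index_ne_zero_of_finite
    have h1 : K.index ≤ 2 := by
      by_contra h
      push Not at h
      nlinarith
    omega
  have hsq : s ^ 2 ∈ Subgroup.centralizer (D : Set G) := by
    rw [Subgroup.mem_centralizer_iff]
    intro x hx
    have hx' : s * x * s⁻¹ ∈ D := (Subgroup.mem_normalizer_iff.1 hs x).1 hx
    have hf : s * ((s * x * s⁻¹) * x) * s⁻¹ = (s * x * s⁻¹) * x := by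
      rcases hidx with h | h
      · have h1 : (⟨(s * x * s⁻¹) * x, D.mul_mem hx' hx⟩ : ↥D) ∈ K := by
          rw [Subgroup.index_eq_one.1 h]
          exact Subgroup.mem_top _
        exact (hmemK _).1 h1
      · have h1 : (⟨s * x * s⁻¹, hx'⟩ * ⟨x, hx⟩ : ↥D) ∈ K := by
          rw [Subgroup.mul_mem_iff_of_index_two h, hmemK, hmemK]
          constructor
          · intro h2
            change s * x * s⁻¹ = x
            have h2' : s * (s * x * s⁻¹) * s⁻¹ = s * x * s⁻¹ := h2
            have h3 := mul_left_cancel (mul_right_cancel h2')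
            exact h3
          · intro h2
            have h2' : s * x * s⁻¹ = x := h2
            change s * (s * x * s⁻¹) * s⁻¹ = s * x * s⁻¹
            rw [h2', h2']
        exact (hmemK _).1 h1
    -- `s² x s⁻² = x`
    have hxx : x * x = 1 := h8.inv x hx
    have hyy : (s * x * s⁻¹) * (s * x * s⁻¹) = 1 := h8.inv _ hx'
    have h1 : s * (s * x * s⁻¹) * s⁻¹ * (s * x * s⁻¹) = (s * x * s⁻¹) * x := by
      rw [← hf]
      group
    have h2 : s * (s * x * s⁻¹) * s⁻¹ = x := by
      have hc := hcomm _ hx' x hx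
      generalize s * (s * x * s⁻¹) * s⁻¹ = w at h1 ⊢
      generalize s * x * s⁻¹ = y at h1 hyy hc
      calc w = w * (y * y) := by rw [hyy, mul_one]
        _ = (w * y) * y := (mul_assoc _ _ _).symm
        _ = (x * y) * y := by rw [h1, hc]
        _ = x * (y * y) := mul_assoc _ _ _
        _ = x := by rw [hyy, mul_one]
    calc x * s ^ 2 = (s * (s * x * s⁻¹) * s⁻¹) * s ^ 2 := by rw [h2]
      _ = s ^ 2 * x := by rw [pow_two]; group
  obtain ⟨j, hj⟩ := hm
  have h5 : s = s ^ m * ((s ^ 2) ^ j)⁻¹ := by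
    rw [hj, ← pow_mul, pow_succ']
    group
  rw [h5]
  exact Subgroup.mul_mem _ hsm (Subgroup.inv_mem _ (Subgroup.pow_mem _ hsq j))

/-- `T` normalizes `D`, `C(D) ≤ T`, `|T : C(D)|` is odd and prime to 7: there is a common fixed point. -/
theorem exists_fix [Finite G] (h8 : E8 D) {T : Subgroup G} (hTN : T ≤ Subgroup.normalizer (D : Set G))
    (hodd : ¬ 2 ∣ (Subgroup.centralizer (D : Set G)).relIndex T)
    (h7 : ¬ 7 ∣ (Subgroup.centralizer (D : Set G)).relIndex T) :
    ∃ u ∈ D, u ≠ 1 ∧ ∀ t ∈ T, t * u * t⁻¹ = u := by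
  classical
  let f : ↥T →* MulAut ↥D := (Subgroup.normalizerMonoidHom D).comp (Subgroup.inclusion hTN)
  letI : MulAction ↥T ↥D := MulAction.compHom ↥D f
  have hsm : ∀ (t : ↥T) (x : ↥D), ((t • x : ↥D) : G) = (t : G) * x * (t : G)⁻¹ := fun t x => rfl
  have hdvd : ∀ x : ↥D, (MulAction.orbit ↥T x).ncard ∣
      (Subgroup.centralizer (D : Set G)).relIndex T := by
    intro x
    rw [← MulAction.index_stabilizer]
    refine Subgroup.index_dvd_of_le ?_
    intro t ht
    rw [Subgroup.mem_subgroupOf, Subgroup.mem_centralizer_iff] at ht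
    rw [MulAction.mem_stabilizer_iff]
    apply Subtype.ext
    rw [hsm, ← ht x x.2]
    group
  obtain ⟨x, hx1, hx⟩ := exists_fixed (X := ↥D) (T := ↥T) 1 (fun t => by
      apply Subtype.ext
      rw [hsm]
      simp) h8.card
    (fun x => by
      rw [← Nat.not_even_iff_odd, even_iff_two_dvd]
      exact fun h => hodd (h.trans (hdvd x)))
    (fun x h => h7 (h ▸ hdvd x))
  refine ⟨x, x.2, fun h => hx1 (Subtype.ext h), fun t ht => ?_⟩
  have := congrArg Subtype.val (hx ⟨t, ht⟩)
  rwa [hsm] at this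

end act

/-! ### blocks -/

section blocks

open Cfsg.Agent.H651 Cfsg.Agent.H649 Cfsg.Agent.Characters
open Cfsg.Agent.H652.DoubleCount Cfsg.Agent.H645.FusCount Cfsg.Agent.H650

variable {G : Type u} [Group G] [Fintype G] {M : Ideal AlgInt} [M.IsPrime]

/-- The local block at `z` has rank one when the stabilizer of `z` in the inertial group centralizes `D`. -/
theorem rank_one_of_free (hM : IsPModular 2 M) {B : Set (IrrCharacter G)} {a : BrauerPairIdx G}
    (hmax : IsMaximalBrauerPair 2 M B a.1 a.2) (hab : ∀ x ∈ a.1, ∀ y ∈ a.1, x * y = y * x)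
    {z : G} (hz : z ∈ a.1)
    (hfree : ∀ t ∈ stab a, t * z * t⁻¹ = z → t ∈ Subgroup.centralizer (a.1 : Set G)) :
    blockRank 2 (bP 2 M a z).2 = 1 ∧
      IsDefectGroup 2 M (bP 2 M a z).2
        (a.1.subgroupOf (Subgroup.centralizer ((bP 2 M a z).1 : Set G))) := by
  haveI : Fact (Nat.Prime 2) := ⟨Nat.prime_two⟩
  obtain ⟨h1, h2⟩ := bP_spec hM hmax.1.1 hz
  obtain ⟨a', k1, k2, k3, k4, k5, k6⟩ := Cfsg.Agent.H645.Watanabe.exists_loc hM hmax hab
    (Q := (bP 2 M a z).1) (f := (bP 2 M a z).2) h2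
  haveI := Fintype.ofFinite (Subgroup.centralizer ((bP 2 M a z).1 : Set G))
  have hnil : IsNilpotentBlock 2 M (bP 2 M a z).2 := by
    rw [Cfsg.Agent.S4687.result 2 M hM (bP 2 M a z).2 a'.1 a'.2 k3 k4]
    intro x hxN hxS
    have hx : x ∈ stab a' := by
      rw [mem_stab]
      exact (conjIdx_eq_iff k3.1.1.2 x).2 ⟨hxN, hxS⟩
    have hxa : (x : G) ∈ stab a := (k5 x).1 hx
    have hxz : (x : G) * z * (x : G)⁻¹ = z := by
      have hxc := x.2
      rw [Subgroup.mem_centralizer_iff] at hxc
      have h3 : z * (x : G) = (x : G) * z := hxc z (by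
        rw [h1]
        exact Subgroup.mem_zpowers z)
      rw [← h3, mul_inv_cancel_right]
    have hxC := hfree _ hxa hxz
    rw [Subgroup.mem_centralizer_iff] at hxC ⊢
    intro y hy
    apply Subtype.ext
    have hy' : (y : G) ∈ a.1 := by
      have h3 : y ∈ a'.1 := hy
      rw [k1] at h3
      exact Subgroup.mem_subgroupOf.1 h3
    exact hxC y hy'
  refine ⟨Cfsg.Agent.H613.NilRank.rank_one hM hnil, ?_⟩
  rw [← k1]
  exact Cfsg.Agent.H644.isDefectGroup_of_isMaximalBrauerPair hM k3

/-- The number of characters is even, and some `z` in `D` has the trivial stabilizer in the inertial quotient. -/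
theorem even_card (hM : IsPModular 2 M) {B : Set (IrrCharacter G)} {a : BrauerPairIdx G}
    (hmax : IsMaximalBrauerPair 2 M B a.1 a.2) (h8 : E8 a.1)
    (h7 : ¬ 7 ∣ (Subgroup.centralizer (a.1 : Set G)).relIndex (stab a)) :
    Even (Nat.card B) ∧ ∃ z ∈ a.1, ∀ t ∈ stab a, t * z * t⁻¹ = z →
      t ∈ Subgroup.centralizer (a.1 : Set G) := by
  classical
  haveI : Fact (Nat.Prime 2) := ⟨Nat.prime_two⟩
  have hab := E8.comm h8
  have hCT : Subgroup.centralizer (a.1 : Set G) ≤ stab a := by
    intro x hx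
    rw [mem_stab, ← Cfsg.Agent.H651.mem_idxStab]
    exact Cfsg.Agent.H651.centralizer_le_idxStab hmax.1.1.2 hx
  have hTN : stab a ≤ Subgroup.normalizer (a.1 : Set G) :=
    Cfsg.Agent.H645.TraceForm.stab_le_normalizer hM hmax hab
  have hodd : ¬ 2 ∣ (Subgroup.centralizer (a.1 : Set G)).relIndex (stab a) :=
    Cfsg.Agent.H645.TraceForm.not_dvd_relIndex_stab hM hmax hab
  obtain ⟨u, hu, hu1, huT⟩ := exists_fix h8 hTN hodd h7
  have hnorm : ((Subgroup.centralizer (a.1 : Set G)).subgroupOf (stab a)).Normal := by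
    refine ⟨fun b hb t => ?_⟩
    rw [Subgroup.mem_subgroupOf] at hb ⊢
    rw [Subgroup.mem_centralizer_iff] at hb ⊢
    intro y hy
    have h1 : (t : G)⁻¹ * y * t ∈ a.1 := (Subgroup.mem_normalizer_iff''.1 (hTN t.2) y).1 hy
    have h2 := hb _ h1
    push_cast
    calc y * ((t : G) * b * (t : G)⁻¹) = t * ((t : G)⁻¹ * y * t * b) * (t : G)⁻¹ := by group
      _ = t * (b * ((t : G)⁻¹ * y * t)) * (t : G)⁻¹ := by rw [h2]
      _ = (t : G) * b * (t : G)⁻¹ * y := by group
  have hpow : ∀ t ∈ stab a, t ^ (Subgroup.centralizer (a.1 : Set G)).relIndex (stab a) ∈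
      Subgroup.centralizer (a.1 : Set G) := fun t ht =>
    Subgroup.pow_index_mem ((Subgroup.centralizer (a.1 : Set G)).subgroupOf (stab a)) ⟨t, ht⟩
  have hE : Odd ((Subgroup.centralizer (a.1 : Set G)).relIndex (stab a)) := by
    rw [← Nat.not_even_iff_odd, even_iff_two_dvd]
    exact hodd
  have key : ∀ v ∈ a.1, ¬ (∀ s ∈ stab a, s * v * s⁻¹ = v) → ∀ t ∈ stab a, t * v * t⁻¹ = v →
      t ∈ Subgroup.centralizer (a.1 : Set G) := by
    intro v hv hns t ht htv
    refine mem_centralizer_of_fix h8 (hTN ht) hE (hpow t ht) hu hv hu1 ?_ ?_ (huT t ht) htv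
    · rintro rfl
      exact hns fun s _ => by group
    · rintro rfl
      exact hns huT
  refine ⟨?_, ?_⟩
  · have := Fintype.ofFinite a.1
    have hcard := Cfsg.Agent.H645.TraceForm.card_eq hM hmax (ctrl_of_abelian hM hmax hab)
    -- the summands
    have hterm : ∀ v : a.1, ((Nat.card (stab a ⊓ Subgroup.centralizer ({(v : G)} : Set G) :
        Subgroup G) : ℂ) * blockRank 2 (bP 2 M a (v : G)).2) =
        if (∀ s ∈ stab a, s * (v : G) * s⁻¹ = v) then
          ((Nat.card (stab a) * blockRank 2 B : ℕ) : ℂ) else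
          ((Nat.card (Subgroup.centralizer (a.1 : Set G)) : ℕ) : ℂ) := by
      intro v
      split_ifs with hv
      · have h1 : (stab a ⊓ Subgroup.centralizer ({(v : G)} : Set G) : Subgroup G) = stab a := by
          rw [inf_eq_left]
          intro t ht
          rw [Subgroup.mem_centralizer_singleton_iff]
          conv_rhs => rw [← hv t ht]
          group
        rw [h1, Cfsg.Agent.H645.Watanabe.rank_eq hM hmax hab v.2 hv]
        push_cast
        rfl
      · have h1 : (stab a ⊓ Subgroup.centralizer ({(v : G)} : Set G) : Subgroup G) =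
            Subgroup.centralizer (a.1 : Set G) := by
          apply le_antisymm
          · rintro t ⟨ht, htv⟩
            refine key v v.2 hv t ht ?_
            have h2 : t * v = v * t := Subgroup.mem_centralizer_singleton_iff.1 htv
            rw [h2, mul_inv_cancel_right]
          · refine le_inf hCT fun t ht => ?_
            rw [Subgroup.mem_centralizer_singleton_iff]
            exact (Subgroup.mem_centralizer_iff.1 ht v v.2).symm
        rw [h1, (rank_one_of_free hM hmax hab v.2 (key v v.2 hv)).1, Nat.cast_one, mul_one]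
    rw [Finset.sum_congr rfl fun v _ => hterm v, Finset.sum_ite, Finset.sum_const,
      Finset.sum_const, nsmul_eq_mul, nsmul_eq_mul] at hcard
    set n := (Finset.univ.filter fun v : a.1 => ∀ s ∈ stab a, s * (v : G) * s⁻¹ = v).card with hn
    set m := (Finset.univ.filter fun v : a.1 => ¬ ∀ s ∈ stab a, s * (v : G) * s⁻¹ = v).card with hm
    have hnm : n + m = 8 := by
      rw [hn, hm, Finset.card_filter_add_card_filter_not, Finset.card_univ,
        ← Nat.card_eq_fintype_card]
      exact h8.card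
    have hT0 : (Nat.card (stab a) : ℂ) ≠ 0 := by exact_mod_cast Nat.card_pos.ne'
    have h1 : (Nat.card B : ℂ) * Nat.card (stab a) =
        n * ((Nat.card (stab a) * blockRank 2 B : ℕ) : ℂ) +
        m * (Nat.card (Subgroup.centralizer (a.1 : Set G)) : ℕ) := by
      rw [hcard]
      field_simp
    have h2 : Nat.card B * Nat.card (stab a) =
        n * (Nat.card (stab a) * blockRank 2 B) +
        m * Nat.card (Subgroup.centralizer (a.1 : Set G)) := by exact_mod_cast h1
    have h3 : Nat.card (stab a) = Nat.card (Subgroup.centralizer (a.1 : Set G)) *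
        (Subgroup.centralizer (a.1 : Set G)).relIndex (stab a) := by
      rw [← Subgroup.card_mul_index ((Subgroup.centralizer (a.1 : Set G)).subgroupOf (stab a)),
        Nat.card_congr (Subgroup.subgroupOfEquivOfLe hCT).toEquiv]
      rfl
    have hneven : Even n := by
      have hF : n = Nat.card ((Subgroup.centralizer (stab a : Set G)).subgroupOf a.1) := by
        rw [hn, ← Fintype.card_subtype, ← Nat.card_eq_fintype_card]
        refine Nat.card_congr (Equiv.subtypeEquivRight fun v => ?_)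
        rw [Subgroup.mem_subgroupOf, Subgroup.mem_centralizer_iff]
        refine forall₂_congr fun s hs => ?_
        constructor
        · intro h
          conv_rhs => rw [← h]
          group
        · intro h
          rw [h, mul_inv_cancel_right]
      have huF : (⟨u, hu⟩ : a.1) ∈ (Subgroup.centralizer (stab a : Set G)).subgroupOf a.1 := by
        rw [Subgroup.mem_subgroupOf, Subgroup.mem_centralizer_iff]
        intro s hs
        change s * u = u * s
        conv_rhs => rw [← huT s hs]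
        group
      rw [hF, even_iff_two_dvd]
      have h4 : orderOf (⟨⟨u, hu⟩, huF⟩ : ↥((Subgroup.centralizer
          (stab a : Set G)).subgroupOf a.1)) = 2 := by
        refine orderOf_eq_prime ?_ ?_
        · apply Subtype.ext
          apply Subtype.ext
          change u ^ 2 = 1
          rw [pow_two]
          exact h8.inv u hu
        · intro h
          exact hu1 (congrArg (fun x : ↥((Subgroup.centralizer
            (stab a : Set G)).subgroupOf a.1) => ((x : a.1) : G)) h)
      rw [← h4]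
      exact orderOf_dvd_natCard _
    have hC0 : 0 < Nat.card (Subgroup.centralizer (a.1 : Set G)) := Nat.card_pos
    set E := (Subgroup.centralizer (a.1 : Set G)).relIndex (stab a) with hEdef
    set c := Nat.card (Subgroup.centralizer (a.1 : Set G)) with hcdef
    have h4 : Nat.card B * E = n * (E * blockRank 2 B) + m := by
      rw [h3] at h2
      apply Nat.eq_of_mul_eq_mul_left hC0
      rw [show c * (Nat.card B * E) = Nat.card B * (c * E) by ring, h2]
      ring
    have h5 : Even (Nat.card B * E) := by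
      rw [h4]
      refine Even.add (hneven.mul_right _) ?_
      obtain ⟨j, hj⟩ := hneven
      exact ⟨4 - j, by omega⟩
    rcases Nat.even_mul.1 h5 with h6 | h6
    · exact h6
    · exact absurd hE (Nat.not_odd_iff_even.2 h6)
  · by_cases h : ∃ z ∈ a.1, ¬ ∀ s ∈ stab a, s * z * s⁻¹ = z
    · obtain ⟨z, hz, hzs⟩ := h
      exact ⟨z, hz, key z hz hzs⟩
    · push Not at h
      refine ⟨1, a.1.one_mem, fun t ht _ => ?_⟩
      rw [Subgroup.mem_centralizer_iff]
      intro y hy
      conv_lhs => rw [← h y hy t ht]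
      group

end blocks

/-- **A4**: inertial quotient of order prime to 7: all heights zero. -/
theorem A4 {G : Type u} [Group G] [Finite G] {M : Ideal AlgInt} (hM : IsPModular 2 M)
    {B : Set (IrrCharacter G)} (hB : IsPBlock M B) {D : Subgroup G} (hD : IsDefectGroup 2 M B D)
    (h8 : E8 D) (c : Set (IrrCharacter ↥(Subgroup.centralizer (D : Set G))))
    (hc : IsInducedBlock M (Subgroup.centralizer (D : Set G)) c B) (T : Subgroup G)
    (hT : ∀ g : G, g ∈ T ↔ (g ∈ Subgroup.normalizer (D : Set G) ∧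
      StabilizesBlock (Subgroup.centralizer (D : Set G)) c g))
    (h7 : ¬ 7 ∣ (Subgroup.centralizer (D : Set G)).relIndex T) :
    ∀ χ ∈ B, blockHeight 2 B (χ : G → ℂ) = 0 := by
  classical
  intro χ hχ
  haveI : Fact (Nat.Prime 2) := ⟨Nat.prime_two⟩
  haveI : M.IsPrime := Cfsg.Agent.Blocks.Local.isPrime_of_isPModular hM
  haveI := Fintype.ofFinite G
  have hmax := Cfsg.Agent.H641.isMaximal_of_induced hM hD hc
  have hab := E8.comm h8
  have hTs : Cfsg.Agent.H645.FusCount.stab (⟨D, c⟩ : BrauerPairIdx G) = T := by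
    ext t
    rw [Cfsg.Agent.H645.FusCount.mem_stab, hT]
    exact Cfsg.Agent.H649.conjIdx_eq_iff hc.1 t
  obtain ⟨hev, z, hz, hfree⟩ := even_card hM (a := (⟨D, c⟩ : BrauerPairIdx G)) hmax h8 (by
    rw [hTs]; exact h7)
  obtain ⟨hr, hdef⟩ := rank_one_of_free hM (a := (⟨D, c⟩ : BrauerPairIdx G)) hmax hab hz hfree
  obtain ⟨h1, h2⟩ := Cfsg.Agent.H652.DoubleCount.bP_spec hM hmax.1.1
    (a := (⟨D, c⟩ : BrauerPairIdx G)) hz
  have hpair := Cfsg.Agent.H645.TraceForm.isBrauerPairOf_bP hM hmax
    (a := (⟨D, c⟩ : BrauerPairIdx G)) hz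
  have hind := (Cfsg.Agent.H649.isBrauerPairOf_iff_isInducedBlock hM hmax.1.2.1 hpair.1.1
    hpair.1.2).1 hpair
  have hH : Subgroup.centralizer
      ((Cfsg.Agent.H652.DoubleCount.bP 2 M (⟨D, c⟩ : BrauerPairIdx G) z).1 : Set G) =
      Subgroup.centralizer ({z} : Set G) := by
    rw [h1, Cfsg.Agent.H652.Ctr.centralizer_zpowers_eq]
  haveI := Cfsg.Agent.Characters.Core.finite_irr (G := G)
  haveI : Fintype B := Fintype.ofFinite B
  obtain ⟨ζ, k, P, a', hζ, hP⟩ := Cfsg.Agent.H624.MajTwo.exists_proj hM hB hD hz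
    (fun d hd => hab d hd z hz) hH hind hdef
  have hd : blockDefect 2 B = 3 := by
    have h3 := Cfsg.Agent.S0908.result 2 M hM B hB D hD
    rw [h8.card, show (8 : ℕ) = 2 ^ 3 by norm_num] at h3
    exact (Nat.pow_right_injective le_rfl h3).symm
  rw [hd, hr, Nat.cast_one] at hP
  obtain ⟨χ₀, hχ₀, hχ₀0⟩ := Cfsg.Agent.Blocks.Blau.exists_blockHeight_eq_zero 2
    (Cfsg.Agent.Blocks.Blau.isPBlock_nonempty hM hB)
  exact ht_zero hM hζ hP ⟨⟨χ₀, hχ₀⟩, hχ₀0⟩ (by rwa [← Nat.card_eq_fintype_card]) ⟨χ, hχ⟩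

end Cfsg.Agent.H990.KKL
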